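import Cfsg.Agent.H712.EP.QTwo
import Cfsg.Agent.OddHalf.NI.FTwo.LeviOne

/-!
# S4929, [M]: Harish-Chandra induction from Levi subgroups (helper712)

* `good_of_MJ` : `Good p r M_J → Good p r Y`.
-/

set_option autoImplicit false
set_option linter.unusedSectionVars false

open scoped ComplexConjugate Pointwise
open Cfsg

namespace Cfsg.Agent.H712.EP

open Cfsg.Agent.Characters Cfsg.Agent.H892.EP
open CoxeterSystem Cfsg.Agent.ChevalleyStructure.CoxeterGeom Cfsg.Agent.Tits.Roots Cfsg.Agent.Tits.Core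
  Cfsg.Agent.Tits.Exchange Cfsg.Agent.Nodes.Reps Cfsg.Agent.Nodes.BNOf Cfsg.Agent.Nodes.StabComb
  Cfsg.Agent.Nodes.Bruhat Cfsg.Agent.Nodes.OppDec Cfsg.Agent.Nodes.LeviDec Cfsg.Agent.H53.HC

universe u v

variable {I W : Type*} {Y : Type u} [Fintype I] [DecidableEq I] [Group W] [Group Y] {M : CoxeterMatrix I}
  {cs : CoxeterSystem M W} {A : I → I → ℤ} {h : IsCartan M A} {T : Subgroup Y} {n : I → Y}
  {X : (I → ℤ) → Subgroup Y} {r : ℕ}

/-- every element is `a g b` with `a ∈ P_J`, `b ∈ B` and `g` over `w` of minimal length in `W_J w` -/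
theorem exists_left_min [Finite W] (R : RGD cs h r T n X) (hG : GG cs h T X = ⊤) (J : Set I) (x : Y) :
    ∃ a ∈ PJ cs h T X J, ∃ b ∈ RGD.B cs h T X, ∃ w g, Rp cs R.nsys w g ∧ x = a * g * b ∧
      (∀ i ∈ J, 0 ≤ rep cs h w⁻¹ (sr i)) := by
  classical
  have hex : ∃ m : ℕ, ∃ w, cs.length w = m ∧ ∃ a ∈ PJ cs h T X J, ∃ b ∈ RGD.B cs h T X, ∃ g,
      Rp cs R.nsys w g ∧ x = a * g * b := by
    obtain ⟨w, b₁, hb₁, k, hk, b₂, hb₂, e⟩ := (mem_GG R).1 (show x ∈ GG cs h T X by rw [hG]; exact Subgroup.mem_top x)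
    exact ⟨_, w, rfl, b₁, B_le_PJ hb₁, b₂, hb₂, k, hk, e⟩
  obtain ⟨w, hw, a, ha, b, hb, g, hg, e⟩ := Nat.find_spec hex
  have hmin := fun m hm => Nat.find_min hex (m := m) hm
  have hmin' : ∀ v, (∃ a ∈ PJ cs h T X J, ∃ b ∈ RGD.B cs h T X, ∃ g, Rp cs R.nsys v g ∧ x = a * g * b) →
      cs.length w ≤ cs.length v := by
    intro v hv
    rw [hw]
    by_contra hcon
    exact hmin _ (not_le.1 hcon) ⟨v, rfl, hv⟩
  refine ⟨a, ha, b, hb, w, g, hg, e, ?_⟩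
  intro i hi
  refine nonneg_of_lt cs h w⁻¹ i ?_
  rw [cs.length_inv, ← cs.length_inv (w⁻¹ * cs.simple i), mul_inv_rev, inv_inv, cs.inv_simple]
  have h1 := hmin' (cs.simple i * w) ⟨a * (n i)⁻¹, mul_mem ha (inv_mem (LJ_le_PJ (n_mem_LJ R hi))), b, hb,
    n i * g, (rp_simple cs R.nsys i).mul hg, by rw [e]; group⟩
  have h2 := cs.length_simple_mul w i
  omega

/-- `U_J` as a Sylow subgroup of `L_J` -/
theorem exists_sylow_LJ [Finite W] [Finite Y] [Fact r.Prime] (R : RGD cs h r T n X) (J : Set I) :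
    ∃ Q : Sylow r ↥(LJ cs h T X J), (Q : Subgroup ↥(LJ cs h T X J)) = (UJ cs h X J).subgroupOf (LJ cs h T X J) := by
  have := Fintype.ofFinite W
  have h1 := OddHalf.NI.FTwo.not_dvd_index_UJ R J
  have h2 : IsPGroup r ↥((UJ cs h X J).subgroupOf (LJ cs h T X J)) := by
    refine IsPGroup.comap_of_injective ?_ _ (Subgroup.subtype_injective _)
    exact R.isPGroup_Upos.to_le (RGD.Sup_mono fun x hx => ⟨hx.1, hx.2.1⟩)
  exact ⟨h2.toSylow h1, rfl⟩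

theorem btnorm (R : RGD cs h r T n X) {b : Y} (hb : b ∈ RGD.B cs h T X) {u : Y}
    (hu : u ∈ RGD.Sup X (RGD.Pos cs h)) : b * u * b⁻¹ ∈ RGD.Sup X (RGD.Pos cs h) := by
  have h1 := mem_normalizer_iff_cj.1 (R.B_le_normalizer_U hb)
  have h2 : b * u * b⁻¹ ∈ cj b (RGD.Sup X (RGD.Pos cs h)) := conj_mem_cj.2 hu
  rwa [h1] at h2

/-- the Sylow subgroups of `Y` project onto Sylow subgroups of `L_J` -/
theorem proj_sylow [Finite W] [Finite Y] [Fact r.Prime] (R : RGD cs h r T n X) (hG : GG cs h T X = ⊤)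
    (J : Set I) {π : ↥(PJ cs h T X J) →* ↥(LJ cs h T X J)}
    (hπ1 : ∀ (l : Y) (hl : l ∈ LJ cs h T X J), π ⟨l, LJ_le_PJ hl⟩ = ⟨l, hl⟩) (P : Sylow r Y) :
    ∃ Q : Sylow r ↥(LJ cs h T X J), ∀ q ∈ (Q : Subgroup ↥(LJ cs h T X J)),
      ∃ h : PJ cs h T X J, (h : Y) ∈ (P : Subgroup Y) ∧ π h = q := by
  have h1 := Cfsg.Agent.KFacts.RgdSyl.not_dvd_relIndex R
  rw [hG, Subgroup.relIndex_top_right] at h1
  let U : Sylow r Y := R.isPGroup_Upos.toSylow h1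
  have hU : (U : Subgroup Y) = RGD.Sup X (RGD.Pos cs h) := rfl
  obtain ⟨x, rfl⟩ := MulAction.exists_smul_eq Y U P
  obtain ⟨a, ha, b, hb, w, g, hg, rfl, hw⟩ := exists_left_min R hG J x
  obtain ⟨Q, hQ⟩ := exists_sylow_LJ R J
  refine ⟨π ⟨a, ha⟩ • Q, fun q hq => ?_⟩
  -- `q = π(a) u π(a)⁻¹`
  rw [Sylow.smul_def, Sylow.pointwise_smul_def, Subgroup.mem_pointwise_smul_iff_inv_smul_mem,
    ← map_inv, MulAut.smul_def, MulAut.conj_apply, inv_inv] at hq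
  set u := (π ⟨a, ha⟩)⁻¹ * q * π ⟨a, ha⟩ with hu
  have huJ : (u : Y) ∈ UJ cs h X J := by
    have : u ∈ (Q : Subgroup ↥(LJ cs h T X J)) := hq
    rw [hQ] at this
    exact Subgroup.mem_subgroupOf.1 this
  have huP : (u : Y) ∈ PJ cs h T X J := LJ_le_PJ u.2
  refine ⟨⟨a, ha⟩ * ⟨u, huP⟩ * (⟨a, ha⟩ : PJ cs h T X J)⁻¹, ?_, ?_⟩
  · -- in the Sylow subgroup
    have h2 : g⁻¹ * u * g ∈ RGD.Sup X (RGD.Pos cs h) :=
      conj_mem_Sup' R hg (S := PosJ cs h J) (S' := RGD.Pos cs h) (fun x hx => hx.1)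
        (fun x hx => ⟨hx.1.act _, rep_nonneg_of_supp hw hx.2.1 hx.2.2⟩) huJ
    have h3 : b⁻¹ * (g⁻¹ * u * g) * b ∈ RGD.Sup X (RGD.Pos cs h) := by
      have := (btnorm R (inv_mem hb) h2)
      rwa [inv_inv] at this
    show a * (u : Y) * a⁻¹ ∈ (((a * g * b) • U : Sylow r Y) : Subgroup Y)
    rw [Sylow.smul_def, Sylow.pointwise_smul_def, Subgroup.mem_pointwise_smul_iff_inv_smul_mem,
      ← map_inv, MulAut.smul_def, MulAut.conj_apply, inv_inv]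
    show (a * g * b)⁻¹ * (a * (u : Y) * a⁻¹) * (a * g * b) ∈ (U : Subgroup Y)
    rw [hU]
    have e : (a * g * b)⁻¹ * (a * (u : Y) * a⁻¹) * (a * g * b) = b⁻¹ * (g⁻¹ * u * g) * b := by group
    rw [e]
    exact h3
  · have h5 : π ⟨u, huP⟩ = u := hπ1 u u.2
    rw [map_mul, map_mul, map_inv, h5, hu]
    group

/-- Harish-Chandra induction from `L_J`. -/
theorem good_of_LJ [Finite W] [Finite Y] [Fact r.Prime] (R : RGD cs h r T n X) (hG : GG cs h T X = ⊤)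
    (J : Set I) {p : ℕ} [Fact p.Prime] (hg : Good p r ↥(LJ cs h T X J)) : Good p r Y := by
  obtain ⟨π, hπ1, hπ2⟩ := exists_projL R J
  exact Good.of_sub (PJ cs h T X J) π (fun l => ⟨⟨l, LJ_le_PJ l.2⟩, hπ1 l l.2⟩) (proj_sylow R hG J hπ1) hg

/-- **[M]** -/
theorem good_of_MJ [Finite Y] [Finite W] {r : ℕ} [Fact r.Prime] (R : RGD cs h r T n X)
    (hG : Cfsg.Agent.Nodes.RGDLib.G1 cs h X = ⊤)
    (J : Set I) {p : ℕ} [Fact p.Prime] (hg : Good p r ↥(Cfsg.Agent.H53.HC.MJ cs h X J)) : Good p r Y := by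
  refine good_of_LJ R (Cfsg.Agent.KFacts.RgdFilt.GG_eq_top (T := T) hG) J ?_
  have h1 : (MJ cs h X J).subgroupOf (LJ cs h T X J) |>.Normal :=
    (Subgroup.normal_subgroupOf_iff_le_normalizer (MJ_le_LJ J)).2 (LJ_le_normalizer_MJ R J)
  exact Good.of_normal h1 (Good.congr (Subgroup.subgroupOfEquivOfLe (MJ_le_LJ J)).symm hg)

end Cfsg.Agent.H712.EP
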