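import Cfsg.Agent.H892.EP.Parity
import Cfsg.Agent.H627.Gow.Mackey
import Cfsg.Agent.FixBN.Split
import Cfsg.Agent.LieExceptional.BNPairCore
import Cfsg.Agent.Schreier.BNUse
import Cfsg.Agent.CharactersDeep.AbelianQuotient

/-!
# The principal series of a group with a split (B, N)-pair (S4929, step (q2))

`BTN B U H N` : `B = U H`, `H = B ∩ N` normal in `N`, Bruhat decomposition with uniqueness.

* `mterm_eq` : Mackey's formula for inflated characters of the torus `H`;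
* `exists_tw_of_inner` : a common constituent of the induced characters of `θ`, `θ'` gives `n` with `θ = θ'^n`;
* `indFun_tw` : `Ind θ = Ind θ^n`;
* `even_md` : the multiplicity of the trivial character of `U` in a constituent of `Ind λ` is even if `λ` is conjugate to
  its complex conjugate, and not equal to it.
-/

set_option autoImplicit false
set_option linter.unusedSectionVars false

open scoped ComplexConjugate
open Cfsg

namespace Cfsg.Agent.H712.EP

open Cfsg.Agent.OddOrderCharacters.Clifford Cfsg.Agent.Characters Cfsg.Agent.H53.HC Cfsg.Agent.H627.Gow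
  Cfsg.Agent.H892.EP

universe u

variable {G : Type u} [Group G]

/-- `B = U H`, `H = B ∩ N` normal in `N`, Bruhat decomposition with uniqueness. -/
structure BTN (B U H N : Subgroup G) : Prop where
  UB : U ≤ B
  HB : H ≤ B
  HN : H ≤ N
  cover : ∀ b ∈ B, ∃ u ∈ U, ∃ t ∈ H, b = u * t
  disj : ∀ t ∈ U, t ∈ H → t = 1
  norm : ∀ b ∈ B, ∀ u ∈ U, b * u * b⁻¹ ∈ U
  cnj : ∀ n ∈ N, ∀ t ∈ H, n * t * n⁻¹ ∈ H
  pel : ∀ n ∈ N, ∀ u ∈ U, n⁻¹ * u * n ∈ B → n⁻¹ * u * n ∈ U
  bruhat : ∀ g : G, ∃ n ∈ N, ∃ a ∈ B, ∃ b ∈ B, g = a * n * b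
  uniq : ∀ n ∈ N, ∀ n' ∈ N, ∀ a ∈ B, ∀ b ∈ B, n' = a * n * b → n⁻¹ * n' ∈ H

/-- the conjugate of the class function `θ` of `H` by `n` -/
noncomputable def tw (H : Subgroup G) (θ : H → ℂ) (n : G) : H → ℂ := fun t => extendByZero H θ (n⁻¹ * t * n)

theorem tw_apply {H : Subgroup G} (θ : H → ℂ) (n : G) (t : H) (h : n⁻¹ * t * n ∈ H) :
    tw H θ n t = θ ⟨n⁻¹ * t * n, h⟩ := ext_apply_mem H θ _ h

namespace BTN

variable {B U H N : Subgroup G} (D : BTN B U H N)

include D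

theorem conj' {n : G} (hn : n ∈ N) {t : G} (ht : t ∈ H) : n⁻¹ * t * n ∈ H := by
  have := D.cnj n⁻¹ (inv_mem hn) t ht
  rwa [inv_inv] at this

/-- conjugation by `n` on `H` -/
def cj {n : G} (hn : n ∈ N) : H ≃* H where
  toFun t := ⟨n⁻¹ * t * n, D.conj' hn t.2⟩
  invFun t := ⟨n * t * n⁻¹, D.cnj n hn t t.2⟩
  left_inv t := Subtype.ext (by simp [mul_assoc])
  right_inv t := Subtype.ext (by simp [mul_assoc])
  map_mul' s t := Subtype.ext (by simp [mul_assoc])

theorem tw_eq (θ : H → ℂ) {n : G} (hn : n ∈ N) : tw H θ n = θ ∘ D.cj hn := by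
  funext t
  exact tw_apply θ n t (D.conj' hn t.2)

theorem tw_irr [Finite G] {θ : H → ℂ} (hθ : IsIrrCharacter H θ) {n : G} (hn : n ∈ N) :
    IsIrrCharacter H (tw H θ n) := by
  rw [D.tw_eq θ hn]
  exact Core.isIrr_comp (D.cj hn).toMonoidHom (D.cj hn).surjective hθ

theorem tw_tw (θ : H → ℂ) {n m : G} (hn : n ∈ N) (hm : m ∈ N) : tw H (tw H θ m) n = tw H θ (n * m) := by
  rw [D.tw_eq _ hn, D.tw_eq _ hm, D.tw_eq _ (mul_mem hn hm)]
  funext t
  simp only [Function.comp_apply]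
  congr 1
  apply Subtype.ext
  show m⁻¹ * (n⁻¹ * (t : G) * n) * m = (n * m)⁻¹ * t * (n * m)
  group

omit D in
theorem tw_of_mem {θ : H → ℂ} (hθ : IsClassFunction H θ) {n : G} (hn : n ∈ H) : tw H θ n = θ := by
  funext t
  rw [tw_apply θ n t (mul_mem (mul_mem (inv_mem hn) t.2) hn)]
  have := hθ t (⟨n, hn⟩ : H)⁻¹
  rw [inv_inv] at this
  exact this

theorem tw_mul_mem {θ : H → ℂ} (hθ : IsClassFunction H θ) {n t : G} (hn : n ∈ N) (ht : t ∈ H) :
    tw H θ (n * t) = tw H θ n := by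
  rw [← D.tw_tw θ hn (D.HN ht), tw_of_mem hθ ht]

theorem tw_one (θ : H → ℂ) : tw H θ 1 = θ := by
  funext t
  rw [tw_apply θ 1 t (by simp)]
  congr 1
  apply Subtype.ext
  simp

theorem eq_tw_inv {θ θ' : H → ℂ} {n : G} (hn : n ∈ N) (h : θ = tw H θ' n) : θ' = tw H θ n⁻¹ := by
  rw [h, D.tw_tw _ (inv_mem hn) hn, inv_mul_cancel, D.tw_one]

theorem tw_conj (θ : H → ℂ) {n : G} (hn : n ∈ N) :
    tw H (fun t => conj (θ t)) n = fun t => conj (tw H θ n t) := by
  rw [D.tw_eq _ hn, D.tw_eq _ hn]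
  rfl

/-- the projection of `B` to `H` -/
theorem exists_proj : ∃ π : B →* H, (∀ t (ht : t ∈ H), π ⟨t, D.HB ht⟩ = ⟨t, ht⟩) ∧
    ∀ u (hu : u ∈ U), π ⟨u, D.UB hu⟩ = 1 := by
  choose f hf g hg hfg using D.cover
  have huniq : ∀ u ∈ U, ∀ u' ∈ U, ∀ t ∈ H, ∀ t' ∈ H, u * t = u' * t' → t = t' := by
    intro u hu u' hu' t ht t' ht' h
    have h1 : u'⁻¹ * u = t' * t⁻¹ := by
      rw [eq_mul_inv_iff_mul_eq, mul_assoc, h, inv_mul_cancel_left]
    have h2 := D.disj _ (mul_mem (inv_mem hu') hu) (by rw [h1]; exact mul_mem ht' (inv_mem ht))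
    rw [h1] at h2
    exact (mul_inv_eq_one.1 h2).symm
  let π : B →* H :=
    { toFun := fun b => ⟨g b b.2, hg b b.2⟩
      map_one' := by
        apply Subtype.ext
        show g ((1 : B) : G) _ = 1
        refine huniq _ (hf _ (1 : B).2) 1 (one_mem _) _ (hg _ _) 1 (one_mem _) ?_
        rw [← hfg]
        simp
      map_mul' := by
        intro a b
        apply Subtype.ext
        show g ((a * b : B) : G) _ = g a a.2 * g b b.2
        refine huniq _ (hf _ (a * b).2) (f a a.2 * (g a a.2 * f b b.2 * (g a a.2)⁻¹))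
          (mul_mem (hf _ _) (D.norm _ (D.HB (hg _ _)) _ (hf _ _))) _ (hg _ _) _ (mul_mem (hg _ _) (hg _ _)) ?_
        rw [← hfg]
        have h1 := hfg a a.2
        have h2 := hfg b b.2
        rw [Subgroup.coe_mul]
        calc (a : G) * b = (f a a.2 * g a a.2) * (f b b.2 * g b b.2) := by rw [← h1, ← h2]
          _ = _ := by group }
  refine ⟨π, fun t ht => ?_, fun u hu => ?_⟩
  · apply Subtype.ext
    show g t _ = t
    refine huniq _ (hf t (D.HB ht)) 1 (one_mem _) _ (hg _ _) t ht ?_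
    rw [← hfg, one_mul]
  · apply Subtype.ext
    show g u _ = 1
    refine huniq _ (hf u (D.UB hu)) u hu _ (hg _ _) 1 (one_mem _) ?_
    rw [← hfg, mul_one]

end BTN

/-- a projection of `B` to `H` with kernel `U` -/
structure Proj (B U H : Subgroup G) (π : B →* H) : Prop where
  fix : ∀ b : B, ∀ t (_ : t ∈ H), (b : G) = t → ((π b : H) : G) = t
  kill : ∀ b : B, (b : G) ∈ U → π b = 1

section

variable {B U H N : Subgroup G}

theorem BTN.proj (D : BTN B U H N) : ∃ π : B →* H, Proj B U H π := by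
  obtain ⟨π, h1, h2⟩ := D.exists_proj
  refine ⟨π, ⟨?_, ?_⟩⟩
  · rintro ⟨b, hb⟩ t ht rfl
    rw [h1 b ht]
  · rintro ⟨b, hb⟩ hbU
    exact h2 b hbU

variable {π : B →* H}

theorem Proj.fix' (hπ : Proj B U H π) {t : G} (ht : t ∈ H) (hb : t ∈ B) : π ⟨t, hb⟩ = ⟨t, ht⟩ :=
  Subtype.ext (hπ.fix ⟨t, hb⟩ t ht rfl)

theorem Proj.mul (hπ : Proj B U H π) {u t : G} (hu : u ∈ U) (ht : t ∈ H) (huB : u ∈ B) (htB : t ∈ B)
    (hb : u * t ∈ B) : π ⟨u * t, hb⟩ = ⟨t, ht⟩ := by
  have h1 : (⟨u * t, hb⟩ : B) = ⟨u, huB⟩ * ⟨t, htB⟩ := rfl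
  rw [h1, map_mul, hπ.kill ⟨u, huB⟩ hu, one_mul, hπ.fix' ht htB]

theorem Proj.surj (D : BTN B U H N) (hπ : Proj B U H π) : Function.Surjective π :=
  fun t => ⟨⟨t, D.HB t.2⟩, hπ.fix' t.2 _⟩

theorem Proj.irr [Finite G] (D : BTN B U H N) (hπ : Proj B U H π) {θ : H → ℂ} (hθ : IsIrrCharacter H θ) :
    IsIrrCharacter B (θ ∘ π) := Core.isIrr_comp π (hπ.surj D) hθ

open Classical in
/-- **Mackey's formula.** -/
theorem mterm_eq [Fintype G] [Fintype B] (D : BTN B U H N) (hπ : Proj B U H π) {θ θ' : H → ℂ}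
    (hθ : IsIrrCharacter H θ) (hθ' : IsIrrCharacter H θ') {n : G} (hn : n ∈ N) :
    mterm B (θ ∘ π) (θ' ∘ π) n = if θ = tw H θ' n then 1 else 0 := by
  have hL' : ∀ l ∈ H, n⁻¹ * l * n ∈ B := fun l hl => D.HB (D.conj' hn hl)
  have e1 : (fun l : H => (θ ∘ π) ⟨l, D.HB l.2⟩) = θ := by
    funext l
    rw [Function.comp_apply, hπ.fix' l.2]
  have e2 : (fun l : H => (θ' ∘ π) ⟨n⁻¹ * l * n, hL' l l.2⟩) = tw H θ' n := by
    funext l
    rw [Function.comp_apply, hπ.fix' (D.conj' hn l.2), tw_apply]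
  have hc := Core.isCharacter_comp π (Core.isIrr_isCharacter hθ)
  have hc' := Core.isCharacter_comp π (Core.isIrr_isCharacter hθ')
  split_ifs with h
  · refine (mterm_cases hc hc' n H D.HB hL' (by rw [e1]; exact hθ) (by rw [e2]; exact D.tw_irr hθ' hn)).2 ?_
    intro t ht ht'
    obtain ⟨u, hu, s, hs, rfl⟩ := D.cover t ht
    have hsn := D.conj' hn hs
    have e3 : n⁻¹ * (u * s) * n = (n⁻¹ * u * n) * (n⁻¹ * s * n) := by group
    have h3 : n⁻¹ * u * n ∈ B := by
      have h4 : n⁻¹ * u * n = (n⁻¹ * (u * s) * n) * (n⁻¹ * s * n)⁻¹ := by group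
      rw [h4]
      exact mul_mem ht' (inv_mem (D.HB hsn))
    have h5 := D.pel n hn u hu h3
    rw [Function.comp_apply, Function.comp_apply, hπ.mul hu hs (D.UB hu) (D.HB hs)]
    have e4 : (⟨n⁻¹ * (u * s) * n, ht'⟩ : B) = ⟨(n⁻¹ * u * n) * (n⁻¹ * s * n), by rw [← e3]; exact ht'⟩ :=
      Subtype.ext e3
    rw [e4, hπ.mul h5 hsn h3 (D.HB hsn), h, tw_apply θ' n ⟨s, hs⟩ hsn]
  · have : Fintype H := Fintype.ofFinite H
    have h1 : twist B (θ ∘ π) (θ' ∘ π) n = 0 := by
      refine twist_eq_zero_of_sub B hc hc' n H D.HB hL' ?_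
      have h2 := Core.classInner_irr_ne hθ (D.tw_irr hθ' hn) h
      rw [Core.classInner_def, mul_eq_zero] at h2
      rcases h2 with h2 | h2
      · exact absurd (inv_eq_zero.1 h2) Core.card_ne_zero_complex
      · rw [← h2]
        refine Finset.sum_congr rfl fun l _ => ?_
        have a1 := congrFun e1 l
        have a2 := congrFun e2 l
        rw [a1, a2]
    rw [mterm, h1, mul_zero]

/-- the Weyl group -/
abbrev Wq (H N : Subgroup G) : Type _ := N ⧸ H.subgroupOf N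

theorem BTN.normal (D : BTN B U H N) : (H.subgroupOf N).Normal := by
  refine ⟨fun t ht n => ?_⟩
  rw [Subgroup.mem_subgroupOf] at ht ⊢
  exact D.cnj n n.2 t ht

open Classical in
/-- **The inner product of the induced characters of `θ`, `θ'`.** -/
theorem inner_count [Fintype G] [Fintype B] (D : BTN B U H N) (hπ : Proj B U H π) {θ θ' : H → ℂ}
    (hθ : IsIrrCharacter H θ) (hθ' : IsIrrCharacter H θ') [Fintype (Wq H N)] :
    classInner (indFun B (θ ∘ π)) (indFun B (θ' ∘ π)) =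
      ((Finset.univ.filter fun w : Wq H N => θ = tw H θ' (w.out : N)).card : ℕ) := by
  have hc := Core.isCharacter_isClassFunction (Core.isCharacter_comp π (Core.isIrr_isCharacter hθ))
  have hc' := Core.isCharacter_isClassFunction (Core.isCharacter_comp π (Core.isIrr_isCharacter hθ'))
  have hkey : ∀ w w' : Wq H N, ((w'.out : N) : G) ∈ dbl B ((w.out : N) : G) → w = w' := by
    rintro w w' ⟨a, ha, b, hb, h⟩
    have h1 := D.uniq _ w.out.2 _ w'.out.2 a ha b hb h
    rw [← w.out_eq', ← w'.out_eq', QuotientGroup.eq, Subgroup.mem_subgroupOf]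
    exact h1
  rw [inner_eq hc hc' (Finset.univ.image fun w : Wq H N => ((w.out : N) : G))]
  · rw [Finset.sum_image, Finset.card_filter, Nat.cast_sum]
    · refine Finset.sum_congr rfl fun w _ => ?_
      rw [mterm_eq D hπ hθ hθ' w.out.2]
      split_ifs <;> simp
    · intro w _ w' _ h
      refine hkey w w' ?_
      have h' : ((w.out : N) : G) = ((w'.out : N) : G) := h
      rw [← h']
      exact mem_dbl_self _
  · intro s hs s' hs' h
    obtain ⟨w, -, rfl⟩ := Finset.mem_image.1 hs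
    obtain ⟨w', -, rfl⟩ := Finset.mem_image.1 hs'
    rw [hkey w w' h]
  · intro x _
    obtain ⟨n, hn, a, ha, b, hb, rfl⟩ := D.bruhat x
    refine ⟨_, Finset.mem_image_of_mem _ (Finset.mem_univ (QuotientGroup.mk (⟨n, hn⟩ : N) : Wq H N)), ?_⟩
    obtain ⟨h, hh⟩ := QuotientGroup.mk_out_eq_mul (H.subgroupOf N) (⟨n, hn⟩ : N)
    have h1 : ((((QuotientGroup.mk (⟨n, hn⟩ : N) : Wq H N).out : N)) : G) = n * ((h : N) : G) := by
      rw [hh]
      rfl
    rw [h1]
    have hhH : ((h : N) : G) ∈ H := Subgroup.mem_subgroupOf.1 h.2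
    exact ⟨a, ha, ((h : N) : G)⁻¹ * b, mul_mem (inv_mem (D.HB hhH)) hb, by group⟩

theorem exists_tw_of_inner [Fintype G] [Fintype B] (D : BTN B U H N) (hπ : Proj B U H π) {θ θ' : H → ℂ}
    (hθ : IsIrrCharacter H θ) (hθ' : IsIrrCharacter H θ')
    (h : classInner (indFun B (θ ∘ π)) (indFun B (θ' ∘ π)) ≠ 0) : ∃ n ∈ N, θ = tw H θ' n := by
  classical
  have : Finite (Wq H N) := inferInstance
  have := Fintype.ofFinite (Wq H N)
  rw [inner_count D hπ hθ hθ', Ne, Nat.cast_eq_zero, Finset.card_eq_zero, ← Ne, ← Finset.nonempty_iff_ne_empty] at h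
  obtain ⟨w, hw⟩ := h
  exact ⟨_, (w.out : N).2, (Finset.mem_filter.1 hw).2⟩

theorem inner_tw [Fintype G] [Fintype B] (D : BTN B U H N) (hπ : Proj B U H π) {θ θ' : H → ℂ}
    (hθ : IsIrrCharacter H θ) (hθ' : IsIrrCharacter H θ') {m : G} (hm : m ∈ N) :
    classInner (indFun B (θ ∘ π)) (indFun B (tw H θ' m ∘ π)) =
      classInner (indFun B (θ ∘ π)) (indFun B (θ' ∘ π)) := by
  classical
  have : Finite (Wq H N) := inferInstance
  have := Fintype.ofFinite (Wq H N)
  have := D.normal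
  have key : ∀ w : Wq H N, tw H θ' (((w * (QuotientGroup.mk (⟨m, hm⟩ : N) : Wq H N)).out : N) : G) =
      tw H θ' (((w.out : N) : G) * m) := by
    intro w
    have h1 : w * (QuotientGroup.mk (⟨m, hm⟩ : N) : Wq H N) = QuotientGroup.mk (w.out * ⟨m, hm⟩ : N) := by
      rw [QuotientGroup.mk_mul, QuotientGroup.out_eq']
    obtain ⟨h, hh⟩ := QuotientGroup.mk_out_eq_mul (H.subgroupOf N) (w.out * ⟨m, hm⟩ : N)
    rw [h1, hh]
    exact D.tw_mul_mem (Core.isIrr_isClassFunction hθ') (mul_mem w.out.2 hm) (Subgroup.mem_subgroupOf.1 h.2)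
  rw [inner_count D hπ hθ hθ', inner_count D hπ hθ (D.tw_irr hθ' hm)]
  congr 1
  refine Finset.card_bij (fun w _ => w * (QuotientGroup.mk (⟨m, hm⟩ : N) : Wq H N)) ?_ ?_ ?_
  · intro w hw
    refine Finset.mem_filter.2 ⟨Finset.mem_univ _, ?_⟩
    have h1 := (Finset.mem_filter.1 hw).2
    rw [D.tw_tw _ w.out.2 hm] at h1
    rw [key]
    exact h1
  · intro w _ w' _ h
    exact mul_right_cancel h
  · intro v hv
    refine ⟨v * (QuotientGroup.mk (⟨m, hm⟩ : N) : Wq H N)⁻¹, Finset.mem_filter.2 ⟨Finset.mem_univ _, ?_⟩,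
      inv_mul_cancel_right v _⟩
    have h1 := (Finset.mem_filter.1 hv).2
    have h2 := key (v * (QuotientGroup.mk (⟨m, hm⟩ : N) : Wq H N)⁻¹)
    rw [inv_mul_cancel_right] at h2
    rw [D.tw_tw _ (Subtype.prop _) hm, ← h2]
    exact h1

/-- **`Ind θ = Ind θ^m`.** -/
theorem indFun_tw [Fintype G] [Fintype B] (D : BTN B U H N) (hπ : Proj B U H π) {θ : H → ℂ}
    (hθ : IsIrrCharacter H θ) {m : G} (hm : m ∈ N) :
    indFun B (tw H θ m ∘ π) = indFun B (θ ∘ π) := by
  classical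
  have : Finite (Wq H N) := inferInstance
  have := Fintype.ofFinite (Wq H N)
  have hθm := D.tw_irr hθ hm
  have h1 := inner_count D hπ hθ hθ
  have h2 := inner_tw D hπ hθ hθ hm
  have h3 := inner_tw D hπ hθm hθ hm
  have h4 : classInner (indFun B (tw H θ m ∘ π)) (indFun B (θ ∘ π)) =
      classInner (indFun B (θ ∘ π)) (indFun B (θ ∘ π)) := by
    rw [← Core.classInner_conj_symm, h2, Core.classInner_conj_symm]
  refine (eq_of_inner h1 (n := _) (m := _) ?_ (h2.trans h1) (h4.trans h1) le_rfl).symm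
  rw [h3, h4, h1]

/-- the multiplicity of the inflation of `θ` in the restriction of `χ` -/
noncomputable def mu [Fintype B] (π : B →* H) (χ : G → ℂ) (θ : H → ℂ) : ℂ := classInner (fun b : B => χ b) (θ ∘ π)

theorem mu_eq [Fintype G] [Fintype B] {χ : G → ℂ} (hχ : IsClassFunction G χ) (θ : H → ℂ) :
    mu π χ θ = classInner χ (indFun B (θ ∘ π)) := by
  rw [mu, ← Core.classInner_conj_symm (θ ∘ π), ← Core.classInner_conj_symm (indFun B (θ ∘ π)),
    classInner_indFun B (θ ∘ π) χ hχ]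

theorem mu_tw [Fintype G] [Fintype B] (D : BTN B U H N) (hπ : Proj B U H π) {χ : G → ℂ} (hχ : IsClassFunction G χ)
    {θ : H → ℂ} (hθ : IsIrrCharacter H θ) {m : G} (hm : m ∈ N) : mu π χ (tw H θ m) = mu π χ θ := by
  rw [mu_eq hχ, mu_eq hχ, indFun_tw D hπ hθ hm]

/-- two characters with a common constituent are not orthogonal -/
theorem inner_ne_zero_of_common {D : Type*} [Group D] [Fintype D] {α β χ : D → ℂ} (hα : IsCharacter D α)
    (hβ : IsCharacter D β) (hχ : IsIrrCharacter D χ) (h1 : classInner α χ ≠ 0) (h2 : classInner β χ ≠ 0) :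
    classInner α β ≠ 0 := by
  have ha := isCharacter_sub_irr hα hχ h1
  have hb := isCharacter_sub_irr hβ hχ h2
  have hc := Core.isIrr_isCharacter hχ
  have e1 : α = χ + (α - χ) := by abel
  have e2 : β = χ + (β - χ) := by abel
  rw [e1, e2, Core.classInner_add_left, Core.classInner_add_right, Core.classInner_add_right,
    Core.classInner_irr_self hχ]
  obtain ⟨b, eb⟩ := Core.classInner_isNat hc hb
  obtain ⟨c, ec⟩ := Core.classInner_isNat ha hc
  obtain ⟨d, ed⟩ := Core.classInner_isNat ha hb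
  rw [eb, ec, ed]
  have : (1 + (b : ℂ) + ((c : ℂ) + d)) = ((1 + b + (c + d) : ℕ) : ℂ) := by push_cast; ring
  rw [this, Nat.cast_ne_zero]
  omega

theorem exists_tw [Fintype G] [Fintype B] (D : BTN B U H N) (hπ : Proj B U H π) {χ : G → ℂ} (hχ : IsIrrCharacter G χ)
    {θ θ' : H → ℂ} (hθ : IsIrrCharacter H θ) (hθ' : IsIrrCharacter H θ') (h1 : mu π χ θ ≠ 0) (h2 : mu π χ θ' ≠ 0) :
    ∃ n ∈ N, θ = tw H θ' n := by
  refine exists_tw_of_inner D hπ hθ hθ' ?_
  rw [mu_eq (Core.isIrr_isClassFunction hχ), ← Core.classInner_conj_symm, Ne, map_eq_zero] at h1 h2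
  exact inner_ne_zero_of_common (S0148.result B _ (Core.isCharacter_comp π (Core.isIrr_isCharacter hθ)))
    (S0148.result B _ (Core.isCharacter_comp π (Core.isIrr_isCharacter hθ'))) hχ h1 h2

theorem mu_nat [Fintype B] {χ : G → ℂ} (hχ : IsCharacter G χ) {θ : H → ℂ} (hθ : IsCharacter H θ) :
    ∃ n : ℕ, mu π χ θ = n :=
  Core.classInner_isNat (Core.isCharacter_comp B.subtype hχ) (Core.isCharacter_comp π hθ)

/-- the character of `H` on the `U`-fixed vectors -/
noncomputable def fx (U : Subgroup G) (H : Subgroup G) [Fintype U] (χ : G → ℂ) : H → ℂ :=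
  fun t => (Nat.card U : ℂ)⁻¹ * ∑ u : U, χ (u * t)

theorem fx_one [Finite G] [Fintype U] (χ : G → ℂ) : fx U H χ 1 = md U χ := by
  rw [md_eq]
  unfold fx
  simp

theorem fx_class [Fintype U] (D : BTN B U H N) {χ : G → ℂ} (hχ : IsClassFunction G χ) :
    IsClassFunction H (fx U H χ) := by
  intro t s
  unfold fx
  congr 1
  let e : U ≃ U :=
    { toFun := fun u => ⟨(s : G)⁻¹ * u * s, by
        have := D.norm _ (inv_mem (D.HB s.2)) _ u.2
        rwa [inv_inv] at this⟩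
      invFun := fun u => ⟨(s : G) * u * (s : G)⁻¹, D.norm _ (D.HB s.2) _ u.2⟩
      left_inv := fun u => Subtype.ext (by simp [mul_assoc])
      right_inv := fun u => Subtype.ext (by simp [mul_assoc]) }
  refine Fintype.sum_equiv e _ _ fun u => ?_
  have h1 : (u : G) * ((s * t * s⁻¹ : H) : G) = (s : G) * ((e u : G) * t) * (s : G)⁻¹ := by
    show (u : G) * ((s : G) * t * (s : G)⁻¹) = (s : G) * ((s : G)⁻¹ * u * s * t) * (s : G)⁻¹
    group
  rw [h1]
  exact hχ _ _

theorem inner_fx [Fintype B] [Fintype U] [Fintype H] (D : BTN B U H N) (hπ : Proj B U H π) (χ : G → ℂ)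
    (θ : H → ℂ) : classInner (fx U H χ) θ = mu π χ θ := by
  have hb : Function.Bijective (fun x : U × H => (⟨x.1 * x.2, mul_mem (D.UB x.1.2) (D.HB x.2.2)⟩ : B)) := by
    constructor
    · rintro ⟨u, t⟩ ⟨u', t'⟩ h
      have h1 : (u : G) * t = u' * t' := congrArg Subtype.val h
      have h2 : (u' : G)⁻¹ * u = t' * (t : G)⁻¹ := by
        rw [eq_mul_inv_iff_mul_eq, mul_assoc, h1, inv_mul_cancel_left]
      have h3 := D.disj _ (mul_mem (inv_mem u'.2) u.2) (by rw [h2]; exact mul_mem t'.2 (inv_mem t.2))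
      have h4 : t = t' := Subtype.ext (by rw [h2] at h3; exact (mul_inv_eq_one.1 h3).symm)
      have h5 : u = u' := Subtype.ext (by rw [inv_mul_eq_one] at h3; exact h3.symm)
      rw [h4, h5]
    · rintro ⟨b, hb⟩
      obtain ⟨u, hu, t, ht, rfl⟩ := D.cover b hb
      exact ⟨(⟨u, hu⟩, ⟨t, ht⟩), rfl⟩
  have hcard : Nat.card B = Nat.card U * Nat.card H := by
    rw [← Nat.card_prod]
    exact (Nat.card_congr (Equiv.ofBijective _ hb)).symm
  unfold mu
  rw [Core.classInner_def, Core.classInner_def, hcard]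
  have h1 : ∑ b : B, (fun b : B => χ b) b * conj ((θ ∘ π) b) =
      ∑ x : U × H, χ ((x.1 : G) * x.2) * conj (θ x.2) := by
    refine (Fintype.sum_equiv (Equiv.ofBijective _ hb) _ _ fun x => ?_).symm
    have h2 : π ((Equiv.ofBijective _ hb) x) = x.2 := hπ.mul x.1.2 x.2.2 (D.UB x.1.2) (D.HB x.2.2) _
    rw [Function.comp_apply, h2]
    rfl
  rw [h1, Fintype.sum_prod_type_right]
  unfold fx
  push_cast
  rw [mul_inv_rev, mul_assoc]
  congr 1
  rw [Finset.mul_sum]
  refine Finset.sum_congr rfl fun t _ => ?_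
  rw [← Finset.sum_mul]
  ring

/-- **The multiplicity of the trivial character of `U` is even.** -/
theorem even_md [Finite G] (D : BTN B U H N) {χ : G → ℂ} (hχ : IsIrrCharacter G χ) {lam : H → ℂ}
    (hl : IsIrrCharacter H lam) (hne : (fun t => conj (lam t)) ≠ lam) {n : G} (hn : n ∈ N)
    (hconj : tw H lam n = fun t => conj (lam t)) [Fintype B] (hπ : Proj B U H π) (h0 : mu π χ lam ≠ 0) :
    ∃ m : ℤ, md U χ = 2 * m := by
  classical
  have := Fintype.ofFinite G
  have := Fintype.ofFinite H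
  have := Fintype.ofFinite U
  have : Finite (IrrCharacter H) := Core.finite_irr
  have := Fintype.ofFinite (IrrCharacter H)
  have hcl := Core.isIrr_isClassFunction hχ
  -- the complex conjugate
  let bar : IrrCharacter H → IrrCharacter H := fun θ => ⟨fun t => conj ((θ : H → ℂ) t), Core.isIrr_conj θ.2⟩
  have hbarbar : ∀ θ, bar (bar θ) = θ := fun θ => Subtype.ext (funext fun t => Complex.conj_conj _)
  -- the characters below `χ`
  have key : ∀ θ : IrrCharacter H, mu π χ (θ : H → ℂ) ≠ 0 →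
      mu π χ (bar θ : H → ℂ) = mu π χ (θ : H → ℂ) ∧ bar θ ≠ θ := by
    intro θ hθ
    obtain ⟨m, hm, e⟩ := exists_tw D hπ hχ θ.2 hl hθ h0
    have e1 : (bar θ : H → ℂ) = tw H lam (m * n) := by
      show (fun t => conj ((θ : H → ℂ) t)) = _
      rw [← D.tw_tw lam hm hn, hconj, D.tw_conj lam hm, e]
    constructor
    · rw [e1, e, mu_tw D hπ hcl hl (mul_mem hm hn), mu_tw D hπ hcl hl hm]
    · intro h
      apply hne
      have e2 : tw H lam (m * n) = tw H lam m := by rw [← e1, h, e]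
      have e3 := congrArg (fun f => tw H f m⁻¹) e2
      simp only [D.tw_tw lam (inv_mem hm) (mul_mem hm hn), D.tw_tw lam (inv_mem hm) hm, inv_mul_cancel_left,
        inv_mul_cancel, D.tw_one] at e3
      rw [← hconj, e3]
  have hmu : ∀ θ : IrrCharacter H, mu π χ (bar θ : H → ℂ) = mu π χ (θ : H → ℂ) := by
    intro θ
    by_cases h : mu π χ (θ : H → ℂ) = 0
    · by_contra hcon
      rw [h] at hcon
      have := (key (bar θ) hcon).1
      rw [hbarbar] at this
      rw [h] at this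
      exact hcon this.symm
    · exact (key θ h).1
  choose a ha using fun θ : IrrCharacter H => mu_nat (π := π) (Core.isIrr_isCharacter hχ) (Core.isIrr_isCharacter θ.2)
  choose d hd using fun θ : IrrCharacter H => Core.isCharacter_apply_one (Core.isIrr_isCharacter θ.2)
  have h1 : md U χ = ((∑ θ, a θ * d θ : ℕ) : ℂ) := by
    rw [← fx_one (H := H), Core.classFunction_eq_sum (fx_class D hcl), Finset.sum_apply]
    push_cast
    refine Finset.sum_congr rfl fun θ _ => ?_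
    rw [Pi.smul_apply, smul_eq_mul, inner_fx D hπ, ha, hd]
  have h2 : ((∑ θ, a θ * d θ : ℕ) : ZMod 2) = 0 := by
    push_cast
    refine Finset.sum_involution (fun θ _ => bar θ) ?_ ?_ (fun _ _ => Finset.mem_univ _) (fun θ _ => hbarbar θ)
    · intro θ _
      have e1 : a (bar θ) = a θ := by
        have := hmu θ
        rw [ha, ha] at this
        exact_mod_cast this
      have e2 : d (bar θ) = d θ := by
        have h3 : (d (bar θ) : ℂ) = d θ := by
          rw [← hd, ← hd]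
          show conj ((θ : H → ℂ) 1) = (θ : H → ℂ) 1
          rw [hd, Complex.conj_natCast]
        exact_mod_cast h3
      rw [e1, e2, CharTwo.add_self_eq_zero]
    · intro θ _ h3
      refine (key θ fun h4 => h3 ?_).2
      have h5 : a θ = 0 := by
        rw [ha] at h4
        exact_mod_cast h4
      rw [h5, Nat.cast_zero, zero_mul]
  rw [ZMod.natCast_eq_zero_iff] at h2
  obtain ⟨m, hm⟩ := h2
  refine ⟨m, ?_⟩
  rw [h1, hm]
  push_cast
  ring

end

/-! ### Groups with a split (B, N)-pair -/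

section split

open Cfsg.Agent.FixBN Cfsg.Agent.LieExceptional.BNPairCore

variable {P : Cfsg.BNPair G} {r : ℕ} {U : Subgroup G}

theorem btn_of_split [Fact r.Prime] (hS : Split P r U) : BTN P.B U (P.B ⊓ P.N) P.N where
  UB := hS.le
  HB := inf_le_left
  HN := inf_le_right
  cover b hb := by
    obtain ⟨u, hu, t, ht, e⟩ := hS.cover' hb
    exact ⟨u, hu, t, ht, e⟩
  disj t ht ht' := by
    obtain ⟨m, hm, h1⟩ := hS.tor
    obtain ⟨k, hk⟩ := hS.isP ⟨t, ht⟩
    have hk' : t ^ r ^ k = 1 := congrArg Subtype.val hk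
    have hcop : Nat.Coprime m (r ^ k) :=
      Nat.Coprime.pow_right _ ((Nat.Prime.coprime_iff_not_dvd Fact.out).2 hm).symm
    have h2 : orderOf t = 1 := Nat.eq_one_of_dvd_coprimes hcop
      (orderOf_dvd_of_pow_eq_one (h1 t (Subgroup.mem_inf.1 ht').1 (Subgroup.mem_inf.1 ht').2))
      (orderOf_dvd_of_pow_eq_one hk')
    exact orderOf_eq_one_iff.1 h2
  norm := hS.norm
  cnj n hn t ht := Subgroup.mem_inf.2
    ⟨P.conj_mem n hn t ht, mul_mem (mul_mem hn (Subgroup.mem_inf.1 ht).2) (inv_mem hn)⟩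
  pel n hn u hu hB := by
    obtain ⟨k, hk⟩ := hS.isP ⟨u, hu⟩
    have hk' : u ^ r ^ k = 1 := congrArg Subtype.val hk
    refine hS.mem_of_pow hB (n := k) ?_
    have h1 : n⁻¹ * u * n = MulAut.conj n⁻¹ u := by simp
    rw [h1, ← map_pow, hk', map_one]
  bruhat g := by
    obtain ⟨n, hn, h⟩ := bruhat (P := P) g
    obtain ⟨a, ha, b, hb, e⟩ := mem_C.1 h
    exact ⟨n, hn, a, ha, b, hb, e⟩
  uniq n hn n' hn' a ha b hb h := by
    have h1 : n' ∈ C P n := mem_C.2 ⟨a, ha, b, hb, h⟩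
    have h2 : n⁻¹ * n' ∈ P.B := rel_of_C_eq hn hn' (C_eq_of_mem h1).symm
    exact Subgroup.mem_inf.2 ⟨h2, mul_mem (inv_mem hn) hn'⟩

/-- **(q2)** -/
theorem evAt_of_lam {p : ℕ} [Fact p.Prime] [Finite G] (hp2 : p ≠ 2)
    {B U H N : Subgroup G} (D : BTN B U H N)
    (hpar : ∀ χ : IrrCharacter G, ∃ z : ℤ, md U (χ : G → ℂ) - (χ : G → ℂ) 1 = 2 * z)
    (lam : H →* ℂˣ) (hpow : ∃ k : ℕ, ∀ t, lam t ^ p ^ k = 1) (hne : lam ≠ 1) {n : G} (hn : n ∈ N)
    (hconj : ∀ (t : H) (h : n⁻¹ * (t : G) * n ∈ H), lam ⟨n⁻¹ * t * n, h⟩ = (lam t)⁻¹) : EvAt p G := by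
  classical
  intro M hM
  have := Fintype.ofFinite G
  have := Fintype.ofFinite B
  obtain ⟨π, hπ⟩ := D.proj
  obtain ⟨k, hk⟩ := hpow
  let l : H → ℂ := fun t => (lam t : ℂ)
  have hl : IsIrrCharacter H l := by
    have := CharactersDeep.AbelianQuotient.isIrr_linear_mul lam (Core.isIrr_one (G := H))
    convert this using 1
    funext t
    simp [l]
  have hnorm : ∀ t, conj (l t) = (((lam t)⁻¹ : ℂˣ) : ℂ) := by
    intro t
    have h1 : ‖(lam t : ℂ)‖ = 1 := by
      refine Complex.norm_eq_one_of_pow_eq_one (n := p ^ k) ?_ (pow_ne_zero _ (Fact.out : p.Prime).ne_zero)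
      rw [← Units.val_pow_eq_pow_val, hk, Units.val_one]
    show conj (lam t : ℂ) = _
    rw [Units.val_inv_eq_inv_val, Complex.inv_def, Complex.normSq_eq_norm_sq, h1]
    simp
  have hconj' : tw H l n = fun t => conj (l t) := by
    funext t
    have h1 := D.conj' hn t.2
    rw [tw_apply l n t h1, hnorm]
    show (lam _ : ℂ) = _
    rw [hconj t h1]
  have hne' : (fun t => conj (l t)) ≠ l := by
    intro h
    apply hne
    ext t
    have h1 : conj (l t) = l t := congrFun h t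
    rw [hnorm] at h1
    have h2 : (lam t)⁻¹ = lam t := Units.ext h1
    have h3 : lam t ^ 2 = 1 := by
      rw [pow_two]
      nth_rewrite 1 [← h2]
      exact inv_mul_cancel _
    have h4 : orderOf (lam t) = 1 := by
      refine Nat.eq_one_of_dvd_coprimes (Nat.Coprime.pow_right k ?_) (orderOf_dvd_of_pow_eq_one h3)
        (orderOf_dvd_of_pow_eq_one (hk t))
      exact (Nat.coprime_primes Nat.prime_two Fact.out).2 hp2.symm
    rw [orderOf_eq_one_iff.1 h4]
    rfl
  -- `lam` is in the principal block of `B`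
  let θ : IrrCharacter B := ⟨l ∘ π, hπ.irr D hl⟩
  have hθ : θ ∈ principalBlock M B := by
    refine mem_of_regSum hM θ ?_
    have h1 : ∀ x : B, ¬ p ∣ orderOf x → (θ : B → ℂ) x = 1 := by
      intro x hx
      have h2 : orderOf (lam (π x)) = 1 := by
        refine Nat.eq_one_of_dvd_coprimes (a := orderOf x) (b := p ^ k) ?_ ?_ (orderOf_dvd_of_pow_eq_one (hk _))
        · exact Nat.Coprime.pow_right _ ((Nat.Prime.coprime_iff_not_dvd Fact.out).2 hx).symm
        · exact orderOf_dvd_of_pow_eq_one (by rw [← map_pow, ← map_pow, pow_orderOf_eq_one, map_one, map_one])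
      show (lam (π x) : ℂ) = 1
      rw [orderOf_eq_one_iff.1 h2, Units.val_one]
    rw [finsum_mem_congr (s := {x : B | ¬ p ∣ orderOf x}) rfl fun x hx => h1 x hx,
      finsum_mem_eq_finite_toFinset_sum _ (Set.toFinite _), Finset.sum_const,
      nsmul_eq_mul, mul_one, Ne, Nat.cast_eq_zero, Finset.card_eq_zero, ← Ne, ← Finset.nonempty_iff_ne_empty]
    refine ⟨1, ?_⟩
    rw [Set.Finite.mem_toFinset]
    show ¬ p ∣ orderOf (1 : B)
    rw [orderOf_one]
    exact (Fact.out : p.Prime).one_lt.ne' ∘ Nat.dvd_one.1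
  obtain ⟨χ, hχ, h1⟩ := exists_over hM B θ hθ
  refine ⟨χ, hχ, ?_⟩
  obtain ⟨m, hm⟩ := even_md D χ.2 hl hne' hn hconj' hπ h1
  obtain ⟨z, hz⟩ := hpar χ
  exact even_of_md hz hm

theorem par_of_inv {r : ℕ} [Fact r.Prime] [Finite G] (hr2 : r ≠ 2) {U A : Subgroup G} (hU : IsPGroup r U)
    (hA : IsPGroup 2 A) (hAn : A ≤ Subgroup.normalizer (U : Set G))
    (hfix : ∀ u ∈ U, (∀ a ∈ A, a * u = u * a) → u = 1) (χ : IrrCharacter G) :
    ∃ z : ℤ, md U (χ : G → ℂ) - (χ : G → ℂ) 1 = 2 * z := by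
  have hUodd : Odd (Nat.card U) := by
    obtain ⟨k, hk⟩ := IsPGroup.iff_card.1 hU
    rw [hk]
    exact ((Fact.out : r.Prime).odd_of_ne_two hr2).pow
  exact parity_one U A hUodd hA hAn hfix (Core.isIrr_isCharacter χ.2)

/-- **(q2)** -/
theorem evAt_of_btn {p r : ℕ} [Fact p.Prime] [Fact r.Prime] [Finite G] (hp2 : p ≠ 2) (hr2 : r ≠ 2)
    {B U H N A : Subgroup G} (D : BTN B U H N) (hU : IsPGroup r U) (hA : IsPGroup 2 A)
    (hAn : A ≤ Subgroup.normalizer (U : Set G)) (hfix : ∀ u ∈ U, (∀ a ∈ A, a * u = u * a) → u = 1)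
    (lam : H →* ℂˣ) (hpow : ∃ k : ℕ, ∀ t, lam t ^ p ^ k = 1) (hne : lam ≠ 1) {n : G} (hn : n ∈ N)
    (hconj : ∀ (t : H) (h : n⁻¹ * (t : G) * n ∈ H), lam ⟨n⁻¹ * t * n, h⟩ = (lam t)⁻¹) : EvAt p G :=
  evAt_of_lam hp2 D (par_of_inv hr2 hU hA hAn hfix) lam hpow hne hn hconj

/-- **(q2)** for an abelian torus: an element `n` of `N`, `n ^ 2 ∈ H`, inverts a nontrivial `p`-element of `H`. -/
theorem evAt_of_inv {p : ℕ} [Fact p.Prime] [Finite G] (hp2 : p ≠ 2)
    {B U H N : Subgroup G} (D : BTN B U H N)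
    (hpar : ∀ χ : IrrCharacter G, ∃ z : ℤ, md U (χ : G → ℂ) - (χ : G → ℂ) 1 = 2 * z)
    (hH : ∀ s ∈ H, ∀ t ∈ H, s * t = t * s) {n : G} (hn : n ∈ N) (hn2 : ∀ t ∈ H, n * n * t = t * (n * n))
    {t : G} (ht : t ∈ H) (ht1 : t ≠ 1) {k : ℕ} (htk : t ^ p ^ k = 1) (hinv : n⁻¹ * t * n = t⁻¹) : EvAt p G := by
  classical
  let _ : CommGroup H := { (inferInstance : Group H) with mul_comm := fun a b => Subtype.ext (hH a a.2 b b.2) }
  have ht1' : (⟨t, ht⟩ : H) ≠ 1 := fun h => ht1 (congrArg Subtype.val h)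
  obtain ⟨lam0, h0⟩ := CommGroup.exists_apply_ne_one_of_hasEnoughRootsOfUnity H ℂ ht1'
  -- a character of `p`-power order
  obtain ⟨a, m, hm, ham⟩ := Nat.exists_eq_pow_mul_and_not_dvd (n := Nat.card H) Nat.card_pos.ne' p
    (Fact.out : p.Prime).ne_one
  have hcard : ∀ s : H, lam0 s ^ Nat.card H = 1 := fun s => by
    rw [← map_pow, pow_card_eq_one', map_one]
  have htp : lam0 ⟨t, ht⟩ ^ p ^ k = 1 := by
    rw [← map_pow]
    have : (⟨t, ht⟩ : H) ^ p ^ k = 1 := Subtype.ext htk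
    rw [this, map_one]
  have hne2 : lam0 ⟨t, ht⟩ ^ (2 * m) ≠ 1 := by
    intro h
    apply h0
    have h1 : Nat.Coprime (2 * m) (p ^ k) := by
      refine Nat.Coprime.pow_right k (Nat.Coprime.mul_left ?_ ?_)
      · exact (Nat.coprime_primes Nat.prime_two Fact.out).2 hp2.symm
      · exact ((Nat.Prime.coprime_iff_not_dvd Fact.out).2 hm).symm
    exact orderOf_eq_one_iff.1 (Nat.eq_one_of_dvd_coprimes h1 (orderOf_dvd_of_pow_eq_one h) (orderOf_dvd_of_pow_eq_one htp))
  let c : H ≃* H := D.cj hn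
  let lam : H →* ℂˣ :=
    { toFun := fun s => (lam0 s ^ m) * (lam0 (c s) ^ m)⁻¹
      map_one' := by simp
      map_mul' := by
        intro x y
        rw [map_mul, map_mul, map_mul, mul_pow, mul_pow, mul_inv]
        exact mul_mul_mul_comm _ _ _ _ }
  have hlam : ∀ s, lam s = (lam0 s ^ m) * (lam0 (c s) ^ m)⁻¹ := fun s => rfl
  refine evAt_of_lam hp2 D hpar lam ⟨a, fun s => ?_⟩ ?_ hn fun s hs => ?_
  · rw [hlam, mul_pow, inv_pow, ← pow_mul, ← pow_mul, mul_comm m, ← ham, hcard, hcard, inv_one, mul_one]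
  · intro h
    have h1 := hlam ⟨t, ht⟩
    rw [h] at h1
    have h2 : c ⟨t, ht⟩ = (⟨t, ht⟩ : H)⁻¹ := Subtype.ext hinv
    rw [h2, map_inv, inv_pow, inv_inv, ← pow_add, ← two_mul] at h1
    exact hne2 h1.symm
  · have h1 : (⟨n⁻¹ * s * n, hs⟩ : H) = c s := rfl
    have h2 : c (c s) = s := by
      apply Subtype.ext
      show n⁻¹ * (n⁻¹ * (s : G) * n) * n = s
      have h3 := hn2 s s.2
      calc n⁻¹ * (n⁻¹ * (s : G) * n) * n = n⁻¹ * n⁻¹ * (s * (n * n)) := by group
        _ = n⁻¹ * n⁻¹ * (n * n * s) := by rw [h3]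
        _ = s := by group
    rw [h1, hlam, hlam, h2, mul_inv, inv_inv, mul_comm]

end split

end Cfsg.Agent.H712.EP
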