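import Cfsg.Agent.H892.EP.TM
import Cfsg.Agent.KFacts.RgdSyl
import Cfsg.Agent.H53.HC.RgdLevi
import Cfsg.Agent.H712.EP.Princ
import Cfsg.Agent.FixBN.SplitRGD

/-!
# S4929, [Q2]: `p` divides the order of the torus (helper712)
-/

set_option autoImplicit false
set_option linter.unusedSectionVars false

open scoped ComplexConjugate
open Cfsg

namespace Cfsg.Agent.H712.EP

open Cfsg.Agent.Characters Cfsg.Agent.H892.EP
open CoxeterSystem Cfsg.Agent.ChevalleyStructure.CoxeterGeom Cfsg.Agent.Tits.Roots Cfsg.Agent.Tits.Core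
  Cfsg.Agent.Nodes.Reps Cfsg.Agent.Nodes.BNOf Cfsg.Agent.Nodes.StabComb

universe u v

section bn

open Cfsg.Agent.LieExceptional.BNPairCore

variable {G : Type u} [Group G]

/-- A (B, N)-pair with `B = U (B ∩ N)`, `U` an `r`-group, `B ∩ N` of exponent prime to `r`. -/
theorem btn_of_bn (P : Cfsg.BNPair G) {r : ℕ} [Fact r.Prime] (U : Subgroup G) (hle : U ≤ P.B)
    (hnorm : ∀ b ∈ P.B, ∀ u ∈ U, b * u * b⁻¹ ∈ U) (hU : IsPGroup r U)
    (hcov : ∀ b ∈ P.B, ∃ u ∈ U, u⁻¹ * b ∈ P.N) {m : ℕ} (hm : ¬ r ∣ m)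
    (htor : ∀ t ∈ P.B, t ∈ P.N → t ^ m = 1) : BTN P.B U (P.B ⊓ P.N) P.N := by
  have hmem : ∀ b ∈ P.B, ∀ k : ℕ, b ^ r ^ k = 1 → b ∈ U := by
    intro b hb k hk
    have hnor : (U.subgroupOf P.B).Normal := by
      constructor
      intro u hu b
      rw [Subgroup.mem_subgroupOf] at hu ⊢
      exact hnorm b b.2 u hu
    obtain ⟨u, hu, hun⟩ := hcov b hb
    have h2 : u⁻¹ * b ∈ P.B := mul_mem (inv_mem (hle hu)) hb
    have h3 : (QuotientGroup.mk (⟨b, hb⟩ : P.B) : P.B ⧸ U.subgroupOf P.B) =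
        QuotientGroup.mk (⟨u⁻¹ * b, h2⟩ : P.B) := by
      rw [QuotientGroup.eq, Subgroup.mem_subgroupOf]
      show b⁻¹ * (u⁻¹ * b) ∈ U
      have h4 := hnorm b⁻¹ (inv_mem hb) _ (inv_mem hu)
      rw [inv_inv] at h4
      rwa [← mul_assoc]
    have h4 : (QuotientGroup.mk (⟨b, hb⟩ : P.B) : P.B ⧸ U.subgroupOf P.B) ^ m = 1 := by
      rw [h3, ← QuotientGroup.mk_pow]
      have h5 : (⟨u⁻¹ * b, h2⟩ : P.B) ^ m = 1 := Subtype.ext (htor _ h2 hun)
      rw [h5]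
      rfl
    have h5 : (QuotientGroup.mk (⟨b, hb⟩ : P.B) : P.B ⧸ U.subgroupOf P.B) ^ r ^ k = 1 := by
      rw [← QuotientGroup.mk_pow]
      have h6 : (⟨b, hb⟩ : P.B) ^ r ^ k = 1 := Subtype.ext hk
      rw [h6]
      rfl
    have hcop : Nat.Coprime m (r ^ k) := Nat.Coprime.pow_right _ ((Nat.Prime.coprime_iff_not_dvd Fact.out).2 hm).symm
    have h6 : orderOf (QuotientGroup.mk (⟨b, hb⟩ : P.B) : P.B ⧸ U.subgroupOf P.B) = 1 :=
      Nat.eq_one_of_dvd_coprimes hcop (orderOf_dvd_of_pow_eq_one h4) (orderOf_dvd_of_pow_eq_one h5)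
    rw [orderOf_eq_one_iff, QuotientGroup.eq_one_iff, Subgroup.mem_subgroupOf] at h6
    exact h6
  refine
    { UB := hle
      HB := inf_le_left
      HN := inf_le_right
      cover := ?_
      disj := ?_
      norm := hnorm
      cnj := ?_
      pel := ?_
      bruhat := ?_
      uniq := ?_ }
  · intro b hb
    obtain ⟨u, hu, hun⟩ := hcov b hb
    exact ⟨u, hu, u⁻¹ * b, Subgroup.mem_inf.2 ⟨mul_mem (inv_mem (hle hu)) hb, hun⟩, by group⟩
  · intro t ht ht'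
    obtain ⟨k, hk⟩ := hU ⟨t, ht⟩
    have hk' : t ^ r ^ k = 1 := congrArg Subtype.val hk
    have hcop : Nat.Coprime m (r ^ k) :=
      Nat.Coprime.pow_right _ ((Nat.Prime.coprime_iff_not_dvd Fact.out).2 hm).symm
    exact orderOf_eq_one_iff.1 (Nat.eq_one_of_dvd_coprimes hcop
      (orderOf_dvd_of_pow_eq_one (htor t (Subgroup.mem_inf.1 ht').1 (Subgroup.mem_inf.1 ht').2))
      (orderOf_dvd_of_pow_eq_one hk'))
  · intro n hn t ht
    exact Subgroup.mem_inf.2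
      ⟨P.conj_mem n hn t ht, mul_mem (mul_mem hn (Subgroup.mem_inf.1 ht).2) (inv_mem hn)⟩
  · intro n hn u hu hB
    obtain ⟨k, hk⟩ := hU ⟨u, hu⟩
    have hk' : u ^ r ^ k = 1 := congrArg Subtype.val hk
    refine hmem _ hB k ?_
    have h1 : n⁻¹ * u * n = MulAut.conj n⁻¹ u := by simp
    rw [h1, ← map_pow, hk', map_one]
  · intro g
    obtain ⟨n, hn, h⟩ := bruhat (P := P) g
    obtain ⟨a, ha, b, hb, e⟩ := mem_C.1 h
    exact ⟨n, hn, a, ha, b, hb, e⟩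
  · intro n hn n' hn' a ha b hb h
    have h1 : n' ∈ C P n := mem_C.2 ⟨a, ha, b, hb, h⟩
    have h2 : n⁻¹ * n' ∈ P.B := rel_of_C_eq hn hn' (C_eq_of_mem h1).symm
    exact Subgroup.mem_inf.2 ⟨h2, mul_mem (inv_mem hn) hn'⟩

end bn

section rgd

variable {I W : Type*} {Y : Type u} [Fintype I] [DecidableEq I] [Group W] [Group Y] {M : CoxeterMatrix I}
  {cs : CoxeterSystem M W} {A : I → I → ℤ} {h : IsCartan M A} {T : Subgroup Y} {n : I → Y}
  {X : (I → ℤ) → Subgroup Y} {r : ℕ}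

theorem gen_of_G1 [Finite W] (R : RGD cs h r T n X) (hG : Cfsg.Agent.Nodes.RGDLib.G1 cs h X = ⊤) :
    RGD.B cs h T X ⊔ NN cs R.nsys = ⊤ := FixBN.NodeRGD.gen_of_top R hG

theorem btn_of_rgd [Finite W] [Fact r.Prime] (R : RGD cs h r T n X)
    (hG : Cfsg.Agent.Nodes.RGDLib.G1 cs h X = ⊤) :
    BTN (RGD.B cs h T X) (RGD.Sup X (RGD.Pos cs h)) T (NN cs R.nsys) := by
  have hgen := gen_of_G1 R hG
  have h1 : (R.bnPair hgen).B ⊓ (R.bnPair hgen).N = T := R.B_inf_NN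
  have D := btn_of_bn (R.bnPair hgen) (r := r) (RGD.Sup X (RGD.Pos cs h)) RGD.U_le_B
    (fun b hb u hu => by
      have h1 := mem_normalizer_iff_cj.1 (R.B_le_normalizer_U hb)
      have h2 : b * u * b⁻¹ ∈ cj b (RGD.Sup X (RGD.Pos cs h)) := conj_mem_cj.2 hu
      rwa [h1] at h2)
    R.isPGroup_Upos
    (fun b hb => by
      obtain ⟨u, hu, hT⟩ := FixBN.NodeRGD.cover R hb
      exact ⟨u, hu, ⟨1, rp_of_mem hT⟩⟩)
    (m := Nat.card T)
    (fun hdvd => (Fact.out : r.Prime).one_lt.ne' (Nat.Coprime.eq_one_of_dvd R.tcop.symm hdvd))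
    (fun t ht htN => by
      have h1 : t ∈ RGD.B cs h T X ⊓ NN cs R.nsys := ⟨ht, htN⟩
      rw [R.B_inf_NN] at h1
      have h2 : (⟨t, h1⟩ : ↥T) ^ Nat.card T = 1 := pow_card_eq_one'
      have h3 := congrArg Subtype.val h2
      rwa [SubgroupClass.coe_pow] at h3)
  rw [h1] at D
  exact D

theorem exists_sylow [Finite W] [Finite Y] [Fact r.Prime] (R : RGD cs h r T n X)
    (hG : Cfsg.Agent.Nodes.RGDLib.G1 cs h X = ⊤) :
    ∃ U : Sylow r Y, (U : Subgroup Y) = RGD.Sup X (RGD.Pos cs h) := by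
  have h1 := Cfsg.Agent.KFacts.RgdSyl.not_dvd_relIndex R
  rw [Cfsg.Agent.KFacts.RgdFilt.GG_eq_top (T := T) hG, Subgroup.relIndex_top_right] at h1
  exact ⟨R.isPGroup_Upos.toSylow h1, rfl⟩

/-- **[Q2]** -/
theorem evAt_q2 [Finite Y] [Finite W] {r : ℕ} [Fact r.Prime] (_hr : r ≠ 2) (R : RGD cs h r T n X)
    (hG : Cfsg.Agent.Nodes.RGDLib.G1 cs h X = ⊤)
    (hT : ∀ a ∈ T, ∀ b ∈ T, a * b = b * a) (hpar : ParU r Y) {p : ℕ} [Fact p.Prime] (hp2 : p ≠ 2) (_hpr : p ≠ r)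
    (hmv : ∃ i, ∃ t ∈ T, (∃ k : ℕ, t ^ p ^ k = 1) ∧ n i * t ≠ t * n i) : EvAt p Y := by
  obtain ⟨i, t, ht, ⟨k, hk⟩, hne⟩ := hmv
  have D := btn_of_rgd R hG
  obtain ⟨U, hU⟩ := exists_sylow R hG
  have hn : n i ∈ NN cs R.nsys := ⟨_, rp_simple cs R.nsys i⟩
  have hn2 : n i * n i ∈ T := by
    have := R.nsys.rel i i
    rwa [M.diagonal, pow_one] at this
  have hcomm : ∀ a ∈ T, ∀ b ∈ T, Commute a b := hT
  set s : Y := (n i)⁻¹ * t * n i with hs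
  have hsT : s ∈ T := D.conj' hn ht
  have hss : (n i)⁻¹ * s * n i = t := by
    have h1 := hT _ hn2 _ ht
    calc (n i)⁻¹ * s * n i = (n i * n i)⁻¹ * (t * (n i * n i)) := by rw [hs]; group
      _ = (n i * n i)⁻¹ * (n i * n i * t) := by rw [h1]
      _ = t := by group
  have hsk : s ^ p ^ k = 1 := by
    have h1 : s = MulAut.conj (n i)⁻¹ t := by simp [hs]
    rw [h1, ← map_pow, hk, map_one]
  refine evAt_of_inv hp2 D (fun χ => by rw [← hU]; exact hpar χ U) hT hn (fun a ha => hT _ hn2 _ ha)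
    (t := t * s⁻¹) (mul_mem ht (inv_mem hsT)) ?_ (k := k) ?_ ?_
  · intro h1
    apply hne
    have h2 : t = s := mul_inv_eq_one.1 h1
    calc n i * t = n i * s := by rw [← h2]
      _ = t * n i := by rw [hs]; group
  · rw [(hcomm t ht s⁻¹ (inv_mem hsT)).mul_pow, hk, inv_pow, hsk]
    simp
  · calc (n i)⁻¹ * (t * s⁻¹) * n i = ((n i)⁻¹ * t * n i) * ((n i)⁻¹ * s * n i)⁻¹ := by group
      _ = s * t⁻¹ := by rw [hss, ← hs]
      _ = (t * s⁻¹)⁻¹ := by group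

end rgd

end Cfsg.Agent.H712.EP
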